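import Mathlib

/-!
# Exactness of fibre sequences: general base change lemmas
-/

set_option autoImplicit false
set_option linter.style.haveILetI false

open TensorProduct Function

namespace Groth.Agent.H3.FibEx

/-- exactness transfers along a ladder of bijections (function level). -/
theorem exact_iff_of_ladder {X₁ X₂ X₃ Y₁ Y₂ Y₃ : Type*} [Zero X₃] [Zero Y₃]
    {f₁₂ : X₁ → X₂} {f₂₃ : X₂ → X₃} {g₁₂ : Y₁ → Y₂} {g₂₃ : Y₂ → Y₃}
    (e₁ : X₁ ≃ Y₁) (e₂ : X₂ ≃ Y₂) (e₃ : X₃ ≃ Y₃) (h₃ : e₃ 0 = 0)
    (c₁ : ∀ x, g₁₂ (e₁ x) = e₂ (f₁₂ x)) (c₂ : ∀ x, g₂₃ (e₂ x) = e₃ (f₂₃ x)) :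
    Exact g₁₂ g₂₃ ↔ Exact f₁₂ f₂₃ := by
  constructor
  · intro h x
    have := h (e₂ x)
    rw [c₂, ← h₃, e₃.apply_eq_iff_eq] at this
    rw [this]
    constructor
    · rintro ⟨y, hy⟩
      obtain ⟨x', rfl⟩ := e₁.surjective y
      rw [c₁] at hy
      exact ⟨x', e₂.injective hy⟩
    · rintro ⟨x', rfl⟩
      exact ⟨e₁ x', c₁ x'⟩
  · intro h y
    obtain ⟨x, rfl⟩ := e₂.surjective y
    rw [c₂, ← h₃, e₃.apply_eq_iff_eq, h x]
    constructor
    · rintro ⟨x', rfl⟩
      exact ⟨e₁ x', c₁ x'⟩
    · rintro ⟨y, hy⟩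
      obtain ⟨x', rfl⟩ := e₁.surjective y
      rw [c₁] at hy
      exact ⟨x', e₂.injective hy⟩

section trans

variable {R : Type*} [CommRing R] {X₁ X₂ X₃ : Type*} [AddCommGroup X₁] [Module R X₁]
  [AddCommGroup X₂] [Module R X₂] [AddCommGroup X₃] [Module R X₃]
  (α : X₁ →ₗ[R] X₂) (β : X₂ →ₗ[R] X₃)

section

variable (A : Type*) [CommRing A] [Algebra R A] (k : Type*) [CommRing k] [Algebra A k]
  [Algebra R k] [IsScalarTower R A k]

theorem cancel_baseChange (x : k ⊗[A] (A ⊗[R] X₁)) :
    AlgebraTensorModule.cancelBaseChange R A k k X₂ ((α.baseChange A).baseChange k x) =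
      α.baseChange k (AlgebraTensorModule.cancelBaseChange R A k k X₁ x) := by
  induction x using TensorProduct.induction_on with
  | zero => simp
  | add x y hx hy => simp only [map_add, hx, hy]
  | tmul c y =>
    induction y using TensorProduct.induction_on with
    | zero => simp
    | add x y hx hy => simp only [tmul_add, map_add, hx, hy]
    | tmul a m => simp

/-- transitivity of base change for exactness. -/
theorem exact_baseChange_trans :
    Exact ((α.baseChange A).baseChange k) ((β.baseChange A).baseChange k) ↔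
      Exact (α.baseChange k) (β.baseChange k) :=
  (exact_iff_of_ladder
    (AlgebraTensorModule.cancelBaseChange R A k k X₁).toEquiv
    (AlgebraTensorModule.cancelBaseChange R A k k X₂).toEquiv
    (AlgebraTensorModule.cancelBaseChange R A k k X₃).toEquiv
    (AlgebraTensorModule.cancelBaseChange R A k k X₃).map_zero
    (fun x => (cancel_baseChange α A k x).symm) (fun x => (cancel_baseChange β A k x).symm)).symm

/-- transitivity of base change for injectivity. -/
theorem injective_baseChange_trans :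
    Injective ((α.baseChange A).baseChange k) ↔ Injective (α.baseChange k) := by
  have h : ∀ x, AlgebraTensorModule.cancelBaseChange R A k k X₂ ((α.baseChange A).baseChange k x) =
      α.baseChange k (AlgebraTensorModule.cancelBaseChange R A k k X₁ x) := cancel_baseChange α A k
  constructor
  · intro hi x y hxy
    obtain ⟨x, rfl⟩ := (AlgebraTensorModule.cancelBaseChange R A k k X₁).surjective x
    obtain ⟨y, rfl⟩ := (AlgebraTensorModule.cancelBaseChange R A k k X₁).surjective y
    rw [← h, ← h] at hxy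
    rw [hi ((AlgebraTensorModule.cancelBaseChange R A k k X₂).injective hxy)]
  · intro hi x y hxy
    apply (AlgebraTensorModule.cancelBaseChange R A k k X₁).injective
    apply hi
    rw [← h, ← h, hxy]

end

/-- exactness of a fibre sequence is insensitive to field extensions. -/
theorem exact_baseChange_fieldExt (k k' : Type*) [Field k] [Field k'] [Algebra R k] [Algebra R k']
    [Algebra k k'] [IsScalarTower R k k'] :
    Exact (α.baseChange k') (β.baseChange k') ↔ Exact (α.baseChange k) (β.baseChange k) := by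
  rw [← exact_baseChange_trans α β k k']
  have h1 : ⇑((α.baseChange k).baseChange k') = ⇑((α.baseChange k).lTensor k') :=
    LinearMap.baseChange_eq_ltensor _
  have h2 : ⇑((β.baseChange k).baseChange k') = ⇑((β.baseChange k).lTensor k') :=
    LinearMap.baseChange_eq_ltensor _
  rw [h1, h2]
  exact Module.FaithfullyFlat.lTensor_exact_iff_exact k k' _ _

/-- injectivity of a fibre map is insensitive to field extensions. -/
theorem injective_baseChange_fieldExt (k k' : Type*) [Field k] [Field k'] [Algebra R k]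
    [Algebra R k'] [Algebra k k'] [IsScalarTower R k k'] :
    Injective (α.baseChange k') ↔ Injective (α.baseChange k) := by
  rw [← injective_baseChange_trans α k k']
  have h1 : ⇑((α.baseChange k).baseChange k') = ⇑((α.baseChange k).lTensor k') :=
    LinearMap.baseChange_eq_ltensor _
  rw [h1]
  exact Module.FaithfullyFlat.lTensor_injective_iff_injective k k' _

/-- exactness at a field-valued point only depends on the underlying prime. -/
theorem exact_baseChange_residueField (k : Type*) [Field k] [Algebra R k] (p : Ideal R) [p.IsPrime]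
    (hp : RingHom.ker (algebraMap R k) = p) :
    Exact (α.baseChange k) (β.baseChange k) ↔
      Exact (α.baseChange p.ResidueField) (β.baseChange p.ResidueField) := by
  let φ : p.ResidueField →+* k := Ideal.ResidueField.lift p (algebraMap R k) hp.ge (by
    intro x hx
    rw [Submonoid.mem_comap, IsUnit.mem_submonoid_iff, isUnit_iff_ne_zero]
    intro h0
    apply hx
    rw [← hp]
    exact h0)
  letI : Algebra p.ResidueField k := φ.toAlgebra
  haveI : IsScalarTower R p.ResidueField k := IsScalarTower.of_algebraMap_eq fun x =>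
    (Ideal.ResidueField.lift_algebraMap p (algebraMap R k) _ _ x).symm
  exact exact_baseChange_fieldExt α β p.ResidueField k

end trans

section isBaseChange

variable {R : Type*} [CommRing R] {X₁ X₂ X₃ : Type*} [AddCommGroup X₁] [Module R X₁]
  [AddCommGroup X₂] [Module R X₂] [AddCommGroup X₃] [Module R X₃]
  (α : X₁ →ₗ[R] X₂) (β : X₂ →ₗ[R] X₃)
  {R' : Type*} [CommRing R'] [Algebra R R']
  {X₁' X₂' X₃' : Type*} [AddCommGroup X₁'] [Module R X₁'] [Module R' X₁'] [IsScalarTower R R' X₁']
  [AddCommGroup X₂'] [Module R X₂'] [Module R' X₂'] [IsScalarTower R R' X₂']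
  [AddCommGroup X₃'] [Module R X₃'] [Module R' X₃'] [IsScalarTower R R' X₃']
  (α' : X₁' →ₗ[R'] X₂') (β' : X₂' →ₗ[R'] X₃')
  (h₁ : X₁ →ₗ[R] X₁') (h₂ : X₂ →ₗ[R] X₂') (h₃ : X₃ →ₗ[R] X₃')

/-- the comparison isomorphism `k ⊗[R] X ≃ k ⊗[R'] X'` for a base change `X → X'`. -/
noncomputable def bcEquiv {X X' : Type*} [AddCommGroup X] [Module R X] [AddCommGroup X']
    [Module R X'] [Module R' X'] [IsScalarTower R R' X'] (h : X →ₗ[R] X') (hb : IsBaseChange R' h)
    (k : Type*) [CommRing k] [Algebra R' k] [Algebra R k] [IsScalarTower R R' k] :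
    k ⊗[R] X ≃ₗ[k] k ⊗[R'] X' :=
  (hb.comp (TensorProduct.isBaseChange R' X' k)).equiv

theorem bcEquiv_tmul {X X' : Type*} [AddCommGroup X] [Module R X] [AddCommGroup X']
    [Module R X'] [Module R' X'] [IsScalarTower R R' X'] (h : X →ₗ[R] X') (hb : IsBaseChange R' h)
    (k : Type*) [CommRing k] [Algebra R' k] [Algebra R k] [IsScalarTower R R' k] (c : k) (x : X) :
    bcEquiv h hb k (c ⊗ₜ x) = c ⊗ₜ h x := by
  rw [bcEquiv, IsBaseChange.equiv_tmul]
  simp [TensorProduct.smul_tmul']

theorem bcEquiv_comm {X Y X' Y' : Type*} [AddCommGroup X] [Module R X] [AddCommGroup X']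
    [Module R X'] [Module R' X'] [IsScalarTower R R' X']
    [AddCommGroup Y] [Module R Y] [AddCommGroup Y']
    [Module R Y'] [Module R' Y'] [IsScalarTower R R' Y']
    (h : X →ₗ[R] X') (hb : IsBaseChange R' h) (g : Y →ₗ[R] Y') (gb : IsBaseChange R' g)
    (a : X →ₗ[R] Y) (a' : X' →ₗ[R'] Y') (c : ∀ x, a' (h x) = g (a x))
    (k : Type*) [CommRing k] [Algebra R' k] [Algebra R k] [IsScalarTower R R' k]
    (x : k ⊗[R] X) :
    a'.baseChange k (bcEquiv h hb k x) = bcEquiv g gb k (a.baseChange k x) := by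
  induction x using TensorProduct.induction_on with
  | zero => simp
  | add x y hx hy => simp only [map_add, hx, hy]
  | tmul b m =>
    rw [bcEquiv_tmul, LinearMap.baseChange_tmul, LinearMap.baseChange_tmul, bcEquiv_tmul, c]

/-- exactness of fibre sequences is compatible with base change of the sequence. -/
theorem exact_baseChange_of_isBaseChange (hb₁ : IsBaseChange R' h₁) (hb₂ : IsBaseChange R' h₂)
    (hb₃ : IsBaseChange R' h₃) (c₁ : ∀ x, α' (h₁ x) = h₂ (α x)) (c₂ : ∀ x, β' (h₂ x) = h₃ (β x))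
    (k : Type*) [CommRing k] [Algebra R' k] [Algebra R k] [IsScalarTower R R' k] :
    Exact (α'.baseChange k) (β'.baseChange k) ↔ Exact (α.baseChange k) (β.baseChange k) :=
  exact_iff_of_ladder (bcEquiv h₁ hb₁ k).toEquiv (bcEquiv h₂ hb₂ k).toEquiv
    (bcEquiv h₃ hb₃ k).toEquiv (bcEquiv h₃ hb₃ k).map_zero
    (fun x => bcEquiv_comm h₁ hb₁ h₂ hb₂ α α' c₁ k x)
    (fun x => bcEquiv_comm h₂ hb₂ h₃ hb₃ β β' c₂ k x)

theorem isBaseChange_equiv_comm {X Y X' Y' : Type*} [AddCommGroup X] [Module R X] [AddCommGroup X']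
    [Module R X'] [Module R' X'] [IsScalarTower R R' X']
    [AddCommGroup Y] [Module R Y] [AddCommGroup Y']
    [Module R Y'] [Module R' Y'] [IsScalarTower R R' Y']
    (h : X →ₗ[R] X') (hb : IsBaseChange R' h) (g : Y →ₗ[R] Y') (gb : IsBaseChange R' g)
    (a : X →ₗ[R] Y) (a' : X' →ₗ[R'] Y') (c : ∀ x, a' (h x) = g (a x))
    (x : R' ⊗[R] X) : a' (hb.equiv x) = gb.equiv (a.baseChange R' x) := by
  induction x using TensorProduct.induction_on with
  | zero => simp
  | add x y hx hy => simp only [map_add, hx, hy]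
  | tmul b m =>
    rw [IsBaseChange.equiv_tmul, LinearMap.baseChange_tmul, IsBaseChange.equiv_tmul, map_smul, c]

/-- a sequence over `R'` which is a base change of a sequence over `R`. -/
theorem exact_iff_baseChange_of_isBaseChange (hb₁ : IsBaseChange R' h₁) (hb₂ : IsBaseChange R' h₂)
    (hb₃ : IsBaseChange R' h₃) (c₁ : ∀ x, α' (h₁ x) = h₂ (α x)) (c₂ : ∀ x, β' (h₂ x) = h₃ (β x)) :
    Exact α' β' ↔ Exact (α.baseChange R') (β.baseChange R') :=
  exact_iff_of_ladder hb₁.equiv.toEquiv hb₂.equiv.toEquiv hb₃.equiv.toEquiv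
    hb₃.equiv.map_zero (fun x => isBaseChange_equiv_comm h₁ hb₁ h₂ hb₂ α α' c₁ x)
    (fun x => isBaseChange_equiv_comm h₂ hb₂ h₃ hb₃ β β' c₂ x)

end isBaseChange

end Groth.Agent.H3.FibEx
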