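import Mathlib
import Groth.Agent.Lib.Helper1.GenFreeLoc
import Groth.Agent.Lib.Helper5.GenExact.B

/-!
# Generic dichotomy for injectivity / exactness of fibre maps over a Noetherian domain
-/

set_option autoImplicit false
set_option linter.style.haveILetI false

universe u

open TensorProduct Function

namespace Groth.Agent.H3.FibEx

section lemmaX

variable {R : Type*} [CommRing R] {X₁ X₂ X₃ C Q : Type*} [AddCommGroup X₁] [Module R X₁]
  [AddCommGroup X₂] [Module R X₂] [AddCommGroup X₃] [Module R X₃]
  [AddCommGroup C] [Module R C] [AddCommGroup Q] [Module R Q]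

/-- exactness of a base-changed sequence in terms of injectivity of two auxiliary maps. -/
theorem exact_baseChange_iff_injective (α : X₁ →ₗ[R] X₂) (β : X₂ →ₗ[R] X₃) (c : X₂ →ₗ[R] C)
    (π : X₃ →ₗ[R] Q) (β' : C →ₗ[R] Q) (hc : Surjective c) (hαc : Exact α c) (hπ : Surjective π)
    (hβαπ : Exact (β ∘ₗ α) π) (hcomm : β' ∘ₗ c = π ∘ₗ β)
    (k : Type*) [CommRing k] [Algebra R k] :
    Exact (α.baseChange k) (β.baseChange k) ↔
      Injective (π.baseChange k) ∧ Injective (β'.baseChange k) := by
  have hck : Surjective (c.baseChange k) := by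
    rw [LinearMap.baseChange_eq_ltensor]; exact LinearMap.lTensor_surjective k hc
  have hαck : Exact (α.baseChange k) (c.baseChange k) := by
    rw [LinearMap.baseChange_eq_ltensor, LinearMap.baseChange_eq_ltensor]
    exact lTensor_exact k hαc hc
  have hβαπk : Exact ((β ∘ₗ α).baseChange k) (π.baseChange k) := by
    rw [LinearMap.baseChange_eq_ltensor, LinearMap.baseChange_eq_ltensor]
    exact lTensor_exact k hβαπ hπ
  have hcommk : ∀ x, β'.baseChange k (c.baseChange k x) = π.baseChange k (β.baseChange k x) := by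
    intro x
    rw [← LinearMap.comp_apply, ← LinearMap.baseChange_comp, hcomm, LinearMap.baseChange_comp,
      LinearMap.comp_apply]
  have hcompk : ∀ y, (β ∘ₗ α).baseChange k y = β.baseChange k (α.baseChange k y) := by
    intro y
    rw [LinearMap.baseChange_comp, LinearMap.comp_apply]
  constructor
  · intro h
    constructor
    · rw [injective_iff_map_eq_zero]
      intro x hx
      obtain ⟨y, rfl⟩ := (hβαπk x).mp hx
      rw [hcompk]
      exact h.apply_apply_eq_zero y
    · rw [injective_iff_map_eq_zero]
      intro z hz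
      obtain ⟨x, rfl⟩ := hck z
      rw [hcommk] at hz
      have hπi : Injective (π.baseChange k) := by
        rw [injective_iff_map_eq_zero]
        intro x hx
        obtain ⟨y, rfl⟩ := (hβαπk x).mp hx
        rw [hcompk]
        exact h.apply_apply_eq_zero y
      have h0 : β.baseChange k x = 0 := hπi (by rw [hz, map_zero])
      obtain ⟨y, rfl⟩ := (h x).mp h0
      exact hαck.apply_apply_eq_zero y
  · rintro ⟨hπi, hβ'i⟩ x
    constructor
    · intro hx
      have : c.baseChange k x = 0 := hβ'i (by rw [hcommk, hx, map_zero, map_zero])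
      exact (hαck x).mp this
    · rintro ⟨y, rfl⟩
      apply hπi
      rw [map_zero, ← hcompk]
      exact hβαπk.apply_apply_eq_zero y

end lemmaX

section inj

open Groth.Agent.H1.GenFree Groth.Agent.H5.GenExact

variable {R S M N : Type u} [CommRing R] [IsDomain R] [IsNoetherianRing R] [CommRing S]
  [Algebra R S] [Algebra.FiniteType R S]
  [AddCommGroup M] [Module S M] [Module R M] [IsScalarTower R S M] [Module.Finite S M]
  [AddCommGroup N] [Module S N] [Module R N] [IsScalarTower R S N] [Module.Finite S N]

/-- injectivity after base change, from a flat cokernel after inverting `f`. -/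
theorem injective_baseChange_of_flat_coker {R : Type*} [CommRing R] (f : R)
    {G H C : Type*} [AddCommGroup G] [Module R G] [AddCommGroup H] [Module R H]
    [AddCommGroup C] [Module R C] (v : G →ₗ[R] H) (w : H →ₗ[R] C)
    (hv : Injective v) (hw : Surjective w) (hvw : Exact v w)
    (h3 : Module.Flat (Localization.Away f) (Localization.Away f ⊗[R] C))
    (k : Type*) [CommRing k] [Algebra R k] (hf : IsUnit (algebraMap R k f)) :
    Injective (v.baseChange k) := by
  have key := exact_baseChange_of_isUnit f (0 : PUnit →ₗ[R] G) v w hw hvw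
    (fun x => ⟨0, by simp⟩)
    (fun y hy => ⟨0, by
      have : y = 0 := hv (by rw [hy, map_zero])
      rw [this, smul_zero]
      exact Submodule.zero_mem _⟩) h3 k hf
  rw [injective_iff_map_eq_zero]
  intro x hx
  obtain ⟨y, rfl⟩ := (key x).mp hx
  rw [LinearMap.baseChange_zero, LinearMap.zero_apply]

set_option maxHeartbeats 1600000 in
/-- **Generic dichotomy for injectivity on fibres.** -/
theorem exists_injective_uniform (φ : M →ₗ[S] N) :
    ∃ f : R, f ≠ 0 ∧ ∃ b : Prop, ∀ (k : Type u) [Field k] [Algebra R k],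
      IsUnit (algebraMap R k f) → (Injective ((φ.restrictScalars R).baseChange k) ↔ b) := by
  haveI : IsNoetherianRing S := Algebra.FiniteType.isNoetherianRing R S
  haveI : IsNoetherian S M := isNoetherian_of_isNoetherianRing_of_finite S M
  obtain ⟨f₁, hf₁, g₁⟩ := exists_good (R := R) (S := S) (M := LinearMap.ker φ) 1 one_ne_zero
  obtain ⟨f₂, hf₂, g₂⟩ := exists_good (R := R) (S := S) (M := LinearMap.range φ) (1 * f₁) hf₁
  obtain ⟨f₃, hf₃, g₃⟩ := exists_good (R := R) (S := S) (M := N ⧸ LinearMap.range φ)
    (1 * f₁ * f₂) hf₂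
  set f := 1 * f₁ * f₂ * f₃ with hfdef
  have freeZ : GenFreeAt R (LinearMap.ker φ) f := (g₁.freeM.mul_right f₂).mul_right f₃
  have freeI : GenFreeAt R (LinearMap.range φ) f := g₂.freeM.mul_right f₃
  have freeQ : GenFreeAt R (N ⧸ LinearMap.range φ) f := g₃.freeM
  haveI hZfree : Module.Free (Localization.Away f) (Localization.Away f ⊗[R] LinearMap.ker φ) :=
    freeZ.free _ (TensorProduct.mk R (Localization.Away f) (LinearMap.ker φ) 1)
  haveI hIfree : Module.Free (Localization.Away f) (Localization.Away f ⊗[R] LinearMap.range φ) :=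
    freeI.free _ (TensorProduct.mk R (Localization.Away f) (LinearMap.range φ) 1)
  haveI hQfree : Module.Free (Localization.Away f)
      (Localization.Away f ⊗[R] (N ⧸ LinearMap.range φ)) :=
    freeQ.free _ (TensorProduct.mk R (Localization.Away f) (N ⧸ LinearMap.range φ) 1)
  refine ⟨f, hf₃, Subsingleton (Localization.Away f ⊗[R] LinearMap.ker φ), ?_⟩
  intro k _ _ hfk
  -- the maps
  let ιZ : LinearMap.ker φ →ₗ[R] M := (LinearMap.ker φ).subtype.restrictScalars R
  let ρ : M →ₗ[R] LinearMap.range φ := φ.rangeRestrict.restrictScalars R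
  let ιI : LinearMap.range φ →ₗ[R] N := (LinearMap.range φ).subtype.restrictScalars R
  let q : N →ₗ[R] N ⧸ LinearMap.range φ := (LinearMap.range φ).mkQ.restrictScalars R
  have hρ : Surjective ρ := LinearMap.surjective_rangeRestrict φ
  have hιZρ : Exact ιZ ρ := by
    intro x
    constructor
    · intro hx
      refine ⟨⟨x, ?_⟩, rfl⟩
      rw [LinearMap.mem_ker]
      exact congrArg Subtype.val hx
    · rintro ⟨z, rfl⟩
      apply Subtype.ext
      exact z.2
  have hιIq : Exact ιI q := by
    intro x
    constructor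
    · intro hx
      have : x ∈ LinearMap.range φ := (Submodule.Quotient.mk_eq_zero _).mp hx
      exact ⟨⟨x, this⟩, rfl⟩
    · rintro ⟨z, rfl⟩
      exact (Submodule.Quotient.mk_eq_zero _).mpr z.2
  have hA : Injective (ιZ.baseChange k) :=
    injective_baseChange_of_flat_coker f ιZ ρ Subtype.val_injective hρ hιZρ inferInstance k hfk
  have hB : Injective (ιI.baseChange k) :=
    injective_baseChange_of_flat_coker f ιI q Subtype.val_injective
      (Submodule.mkQ_surjective _) hιIq inferInstance k hfk
  have hC : Exact (ιZ.baseChange k) (ρ.baseChange k) := by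
    rw [LinearMap.baseChange_eq_ltensor, LinearMap.baseChange_eq_ltensor]
    exact lTensor_exact k hιZρ hρ
  have hφ : (φ.restrictScalars R) = ιI ∘ₗ ρ := rfl
  have hφZ : (φ.restrictScalars R) ∘ₗ ιZ = 0 := by
    ext z
    exact z.2
  -- `k ⊗ Z` versus `R' ⊗ Z`
  letI : Algebra (Localization.Away f) k := (IsLocalization.Away.lift f hfk).toAlgebra
  haveI : IsScalarTower R (Localization.Away f) k := IsScalarTower.of_algebraMap_eq (fun r => by
    change _ = (IsLocalization.Away.lift f hfk) (algebraMap R (Localization.Away f) r)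
    rw [IsLocalization.Away.lift_eq])
  let e := AlgebraTensorModule.cancelBaseChange R (Localization.Away f) k k (LinearMap.ker φ)
  constructor
  · intro hinj
    have hsub : Subsingleton (k ⊗[R] LinearMap.ker φ) := by
      refine ⟨fun x y => ?_⟩
      apply hA
      apply hinj
      have h0 : ∀ z, (φ.restrictScalars R).baseChange k (ιZ.baseChange k z) = 0 := by
        intro z
        rw [← LinearMap.comp_apply, ← LinearMap.baseChange_comp, hφZ, LinearMap.baseChange_zero,
          LinearMap.zero_apply]
      rw [h0, h0]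
    by_contra hne
    rw [not_subsingleton_iff_nontrivial] at hne
    haveI := hne
    haveI : Nontrivial (k ⊗[Localization.Away f] (Localization.Away f ⊗[R] LinearMap.ker φ)) :=
      Module.FaithfullyFlat.rTensor_nontrivial _ _ k
    haveI : Nontrivial (k ⊗[R] LinearMap.ker φ) := e.symm.toEquiv.nontrivial
    exact not_subsingleton (k ⊗[R] LinearMap.ker φ) hsub
  · intro hb
    haveI := hb
    haveI : Subsingleton (k ⊗[R] LinearMap.ker φ) := e.symm.toEquiv.subsingleton
    have hρi : Injective (ρ.baseChange k) := by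
      rw [injective_iff_map_eq_zero]
      intro x hx
      obtain ⟨z, rfl⟩ := (hC x).mp hx
      rw [Subsingleton.elim z 0, map_zero]
    rw [hφ, LinearMap.baseChange_comp]
    exact hB.comp hρi

end inj

section exact

variable {R S X₁ X₂ X₃ : Type u} [CommRing R] [IsDomain R] [IsNoetherianRing R] [CommRing S]
  [Algebra R S] [Algebra.FiniteType R S]
  [AddCommGroup X₁] [Module S X₁] [Module R X₁] [IsScalarTower R S X₁] [Module.Finite S X₁]
  [AddCommGroup X₂] [Module S X₂] [Module R X₂] [IsScalarTower R S X₂] [Module.Finite S X₂]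
  [AddCommGroup X₃] [Module S X₃] [Module R X₃] [IsScalarTower R S X₃] [Module.Finite S X₃]

set_option maxHeartbeats 1600000 in
/-- **Generic dichotomy for exactness on fibres.** -/
theorem exists_exact_uniform (α : X₁ →ₗ[S] X₂) (β : X₂ →ₗ[S] X₃) :
    ∃ f : R, f ≠ 0 ∧ ∃ b : Prop, ∀ (k : Type u) [Field k] [Algebra R k],
      IsUnit (algebraMap R k f) →
        (Exact ((α.restrictScalars R).baseChange k) ((β.restrictScalars R).baseChange k) ↔ b) := by
  let W : Submodule S X₃ := LinearMap.range (β ∘ₗ α)
  let π : X₃ →ₗ[S] X₃ ⧸ W := W.mkQ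
  let c : X₂ →ₗ[S] X₂ ⧸ LinearMap.range α := (LinearMap.range α).mkQ
  have hle : LinearMap.range α ≤ W.comap β := by
    rintro _ ⟨x, rfl⟩
    exact ⟨x, rfl⟩
  let β' : (X₂ ⧸ LinearMap.range α) →ₗ[S] X₃ ⧸ W := Submodule.mapQ _ W β hle
  obtain ⟨f₁, hf₁, b₁, h₁⟩ := exists_injective_uniform (R := R) π
  obtain ⟨f₂, hf₂, b₂, h₂⟩ := exists_injective_uniform (R := R) β'
  refine ⟨f₁ * f₂, mul_ne_zero hf₁ hf₂, b₁ ∧ b₂, ?_⟩
  intro k _ _ hfk
  rw [map_mul, IsUnit.mul_iff] at hfk
  rw [← h₁ k hfk.1, ← h₂ k hfk.2]
  refine exact_baseChange_iff_injective (α.restrictScalars R) (β.restrictScalars R)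
    (c.restrictScalars R) (π.restrictScalars R) (β'.restrictScalars R)
    (Submodule.mkQ_surjective _) ?_ (Submodule.mkQ_surjective _) ?_ ?_ k
  · exact LinearMap.exact_map_mkQ_range α
  · exact LinearMap.exact_map_mkQ_range (β ∘ₗ α)
  · rfl

end exact

end Groth.Agent.H3.FibEx
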