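import Mathlib
import Groth.Agent.Lib.Helper1.LimFlat3
import Groth.Agent.Lib.Helper8.ConstructibleNoeth
import Groth.Agent.Lib.Helper3.FibEx.A
import Groth.Agent.Lib.Helper3.FibEx.B

/-!
# Exactness loci for polynomial matrix data
-/

set_option autoImplicit false
set_option linter.style.haveILetI false

universe u

open TensorProduct Function Topology

namespace Groth.Agent.H3.FibEx

open Groth.Agent.H1.PolyModel

attribute [local instance] MvPolynomial.algebraMvPolynomial

/-- matrix data for a sequence `P^t → P^r → Mod r' t' k'` over the polynomial ring `P n R`. -/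
structure Dat (n t r r' t' : ℕ) (R : Type u) [CommRing R] where
  K : Fin t → (Fin r → P n R)
  Ψ : Fin r → (Fin r' → P n R)
  k' : Fin t' → (Fin r' → P n R)

namespace Dat

variable {n t r r' t' : ℕ} {R : Type u} [CommRing R] (D : Dat n t r r' t' R)

/-- push the data along a ring map. -/
noncomputable def map (R' : Type u) [CommRing R'] [Algebra R R'] : Dat n t r r' t' R' :=
  ⟨kmap R' r t D.K, kmap R' r' r D.Ψ, kmap R' r' t' D.k'⟩

/-- the first map of the sequence. -/
noncomputable def α : (Fin t → P n R) →ₗ[P n R] (Fin r → P n R) := kap r t D.K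

/-- the second map of the sequence. -/
noncomputable def β : (Fin r → P n R) →ₗ[P n R] Mod r' t' D.k' :=
  proj r' t' D.k' ∘ₗ kap r' r D.Ψ

/-- exactness of the sequence. -/
def IsExact : Prop := Exact D.α D.β

theorem map_map (R' R'' : Type u) [CommRing R'] [CommRing R''] [Algebra R R'] [Algebra R' R'']
    [Algebra R R''] [IsScalarTower R R' R''] : (D.map R').map R'' = D.map R'' := by
  simp only [map, kmap_kmap]

/-- the sequence of the pushed data is the base change of the sequence. -/
theorem isExact_map_iff (R' : Type u) [CommRing R'] [Algebra R R'] :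
    (D.map R').IsExact ↔ Exact ((D.α.restrictScalars R).baseChange R')
      ((D.β.restrictScalars R).baseChange R') := by
  refine exact_iff_baseChange_of_isBaseChange (D.α.restrictScalars R) (D.β.restrictScalars R)
    ((D.map R').α.restrictScalars R') ((D.map R').β.restrictScalars R')
    ((vmap n t R R').restrictScalars R) ((vmap n r R R').restrictScalars R)
    ((muM R' r' t' D.k').restrictScalars R)
    (isBaseChange_vmap_restrictScalars n t R R') (isBaseChange_vmap_restrictScalars n r R R')
    (isBaseChange_muM_restrictScalars R' r' t' D.k') ?_ ?_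
  · intro x
    exact (vmap_kap R' r t D.K x).symm
  · intro x
    change proj r' t' (kmap R' r' t' D.k') (kap r' r (kmap R' r' r D.Ψ) (vmap n r R R' x)) =
      muM R' r' t' D.k' (proj r' t' D.k' (kap r' r D.Ψ x))
    rw [muM_proj, vmap_kap]

/-- exactness at a field-valued point only depends on the prime. -/
theorem isExact_map_residueField (k : Type u) [Field k] [Algebra R k] (p : Ideal R) [p.IsPrime]
    (hp : RingHom.ker (algebraMap R k) = p) :
    (D.map k).IsExact ↔ (D.map p.ResidueField).IsExact := by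
  rw [D.isExact_map_iff, D.isExact_map_iff]
  exact exact_baseChange_residueField _ _ k p hp

/-- the exactness locus. -/
def exactLocus : Set (PrimeSpectrum R) := {p | (D.map p.asIdeal.ResidueField).IsExact}

theorem mem_exactLocus (p : PrimeSpectrum R) :
    p ∈ D.exactLocus ↔ (D.map p.asIdeal.ResidueField).IsExact := Iff.rfl

/-- **Noetherian case**: the exactness locus is constructible. -/
theorem isConstructible_exactLocus_of_isNoetherianRing [IsNoetherianRing R] :
    IsConstructible D.exactLocus := by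
  rw [Groth.Agent.H8.CNoeth.isConstructible_iff]
  intro Y hYc hYi
  have hprime : (PrimeSpectrum.vanishingIdeal Y).IsPrime :=
    PrimeSpectrum.isIrreducible_iff_vanishingIdeal_isPrime.mp hYi
  set 𝔭 := PrimeSpectrum.vanishingIdeal Y with h𝔭
  have hY : Y = PrimeSpectrum.zeroLocus (𝔭 : Set R) := by
    rw [PrimeSpectrum.zeroLocus_vanishingIdeal_eq_closure, hYc.closure_eq]
  haveI := hprime
  obtain ⟨fbar, hfbar, b, hb⟩ := exists_exact_uniform (R := R ⧸ 𝔭) (S := P n (R ⧸ 𝔭))
    (D.map (R ⧸ 𝔭)).α (D.map (R ⧸ 𝔭)).β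
  obtain ⟨f, rfl⟩ := Ideal.Quotient.mk_surjective fbar
  have hf : f ∉ 𝔭 := fun h => hfbar (Ideal.Quotient.eq_zero_iff_mem.mpr h)
  have hne : ((PrimeSpectrum.basicOpen f : Set (PrimeSpectrum R)) ∩ Y).Nonempty := by
    refine ⟨⟨𝔭, hprime⟩, hf, ?_⟩
    rw [hY, PrimeSpectrum.mem_zeroLocus]
  have key : ∀ q ∈ (PrimeSpectrum.basicOpen f : Set (PrimeSpectrum R)) ∩ Y,
      (q ∈ D.exactLocus ↔ b) := by
    rintro q ⟨hqf, hqY⟩
    have hle : 𝔭 ≤ q.asIdeal := by
      rw [hY, PrimeSpectrum.mem_zeroLocus] at hqY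
      exact hqY
    let φ : R ⧸ 𝔭 →+* q.asIdeal.ResidueField :=
      Ideal.Quotient.lift 𝔭 (algebraMap R q.asIdeal.ResidueField)
        (fun a ha => Ideal.algebraMap_residueField_eq_zero.mpr (hle ha))
    letI : Algebra (R ⧸ 𝔭) q.asIdeal.ResidueField := φ.toAlgebra
    haveI : IsScalarTower R (R ⧸ 𝔭) q.asIdeal.ResidueField :=
      IsScalarTower.of_algebraMap_eq fun x => rfl
    have hunit : IsUnit (algebraMap (R ⧸ 𝔭) q.asIdeal.ResidueField (Ideal.Quotient.mk 𝔭 f)) := by
      change IsUnit (algebraMap R q.asIdeal.ResidueField f)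
      rw [isUnit_iff_ne_zero, Ne, Ideal.algebraMap_residueField_eq_zero]
      exact hqf
    rw [Dat.mem_exactLocus, ← D.map_map (R ⧸ 𝔭) q.asIdeal.ResidueField,
      (D.map (R ⧸ 𝔭)).isExact_map_iff q.asIdeal.ResidueField]
    exact hb q.asIdeal.ResidueField hunit
  by_cases hbb : b
  · right
    exact ⟨PrimeSpectrum.basicOpen f, (PrimeSpectrum.basicOpen f).isOpen, hne,
      fun q hq => (key q hq).mpr hbb⟩
  · left
    exact Groth.Agent.H8.CNoeth.isNowhereDense_preimage_val hYi (PrimeSpectrum.basicOpen f).isOpen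
      hne (fun q hq h => hbb ((key q hq).mp h))

end Dat

/-- preimages of constructible sets under `Spec` of a ring map are constructible. -/
theorem isConstructible_preimage_comap {A B : Type*} [CommRing A] [CommRing B] (f : A →+* B)
    {s : Set (PrimeSpectrum A)} (hs : IsConstructible s) :
    IsConstructible (PrimeSpectrum.comap f ⁻¹' s) := by
  refine hs.preimage (PrimeSpectrum.continuous_comap f) ?_
  intro U hUo hUr
  have hUc : IsCompact U := by
    have := hUr (U := Set.univ) isCompact_univ isOpen_univ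
    rwa [Set.inter_univ] at this
  obtain ⟨T, rfl⟩ := PrimeSpectrum.isCompact_isOpen_iff.mp ⟨hUc, hUo⟩
  rw [Set.preimage_compl, PrimeSpectrum.preimage_comap_zeroLocus]
  exact PrimeSpectrum.isRetrocompact_zeroLocus_compl ((T.finite_toSet).image f)

namespace Dat

variable {n t r r' t' : ℕ} {R : Type u} [CommRing R] (D : Dat n t r r' t' R)

/-- the data is defined over a finitely generated subring. -/
theorem exists_descend : ∃ S₁ : Subalgebra ℤ R, S₁.FG ∧ ∃ D₁ : Dat n t r r' t' S₁, D₁.map R = D := by
  classical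
  let Q : Finset (P n R) := (Finset.univ.image fun x : Fin t × Fin r => D.K x.1 x.2) ∪
    (Finset.univ.image fun x : Fin r × Fin r' => D.Ψ x.1 x.2) ∪
    (Finset.univ.image fun x : Fin t' × Fin r' => D.k' x.1 x.2)
  obtain ⟨S₁, -, hS₁, hQ⟩ := Groth.Agent.H1.LimFlat.exists_fg_ge_forall_mem_range (n := n)
    (⊥ : Subalgebra ℤ R) Subalgebra.fg_bot Q
  refine ⟨S₁, hS₁, ?_⟩
  have h1 : ∀ u, ∃ v' : Fin r → P n S₁, vmap n r S₁ R v' = D.K u := fun u =>
    Groth.Agent.H1.LimFlat.exists_vmap_eq S₁ (D.K u) fun i => hQ _ (by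
      simp only [Q, Finset.mem_union, Finset.mem_image, Finset.mem_univ, true_and]
      exact Or.inl (Or.inl ⟨(u, i), rfl⟩))
  have h2 : ∀ u, ∃ v' : Fin r' → P n S₁, vmap n r' S₁ R v' = D.Ψ u := fun u =>
    Groth.Agent.H1.LimFlat.exists_vmap_eq S₁ (D.Ψ u) fun i => hQ _ (by
      simp only [Q, Finset.mem_union, Finset.mem_image, Finset.mem_univ, true_and]
      exact Or.inl (Or.inr ⟨(u, i), rfl⟩))
  have h3 : ∀ u, ∃ v' : Fin r' → P n S₁, vmap n r' S₁ R v' = D.k' u := fun u =>
    Groth.Agent.H1.LimFlat.exists_vmap_eq S₁ (D.k' u) fun i => hQ _ (by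
      simp only [Q, Finset.mem_union, Finset.mem_image, Finset.mem_univ, true_and]
      exact Or.inr ⟨(u, i), rfl⟩)
  choose K₁ hK₁ using h1
  choose Ψ₁ hΨ₁ using h2
  choose k₁ hk₁ using h3
  refine ⟨⟨K₁, Ψ₁, k₁⟩, ?_⟩
  cases D
  simp only [map, mk.injEq]
  exact ⟨funext hK₁, funext hΨ₁, funext hk₁⟩

/-- **The exactness locus is constructible** (arbitrary base ring). -/
theorem isConstructible_exactLocus : IsConstructible D.exactLocus := by
  obtain ⟨S₁, hS₁, D₁, rfl⟩ := D.exists_descend
  haveI := Groth.Agent.H1.LimFlat.isNoetherianRing_of_fg S₁ hS₁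
  have h := D₁.isConstructible_exactLocus_of_isNoetherianRing
  have hpre : (D₁.map R).exactLocus = PrimeSpectrum.comap (algebraMap S₁ R) ⁻¹' D₁.exactLocus := by
    ext p
    rw [Set.mem_preimage, mem_exactLocus, mem_exactLocus, map_map]
    refine D₁.isExact_map_residueField p.asIdeal.ResidueField
      (PrimeSpectrum.comap (algebraMap S₁ R) p).asIdeal ?_
    ext x
    rw [RingHom.mem_ker, IsScalarTower.algebraMap_apply S₁ R p.asIdeal.ResidueField,
      Ideal.algebraMap_residueField_eq_zero]
    rfl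
  rw [hpre]
  exact isConstructible_preimage_comap _ h

end Dat

end Groth.Agent.H3.FibEx
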