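import Mathlib

/-!
# Comparing a sequence of modules with a presentation of it
-/

set_option autoImplicit false
set_option linter.style.haveILetI false

open TensorProduct Function

namespace Groth.Agent.H3.FibEx

section pure

variable {k : Type*} [Ring k] {X₁ X₂ Y F G H H' I : Type*}
  [AddCommGroup X₁] [Module k X₁] [AddCommGroup X₂] [Module k X₂] [AddCommGroup Y] [Module k Y]
  [AddCommGroup F] [Module k F] [AddCommGroup G] [Module k G] [AddCommGroup H] [Module k H]
  [AddCommGroup H'] [Module k H'] [AddCommGroup I] [Module k I]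

/-- pure diagram lemma. -/
theorem exact_iff_exact_presentation (α : X₁ →ₗ[k] X₂) (γ : X₂ →ₗ[k] G) (αb : Y →ₗ[k] X₂)
    (s : Y →ₗ[k] X₁) (u : F →ₗ[k] G) (v : G →ₗ[k] H) (e : H' →ₗ[k] H) (β : X₂ →ₗ[k] H')
    (ι : I →ₗ[k] G) (a : X₁ →ₗ[k] I) (b : F →ₗ[k] I)
    (hγ : Surjective γ) (hbγ : Exact αb γ) (hs : ∀ y, αb y = α (s y))
    (ha : Surjective a) (hb : Surjective b) (hιa : ∀ x, γ (α x) = ι (a x)) (hιb : ∀ y, u y = ι (b y))
    (he : ∀ x, e (β x) = v (γ x)) (hei : Injective e) :
    Exact u v ↔ Exact α β := by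
  constructor
  · intro h x
    constructor
    · intro hx
      have h1 : v (γ x) = 0 := by rw [← he, hx, map_zero]
      obtain ⟨y, hy⟩ := (h (γ x)).mp h1
      obtain ⟨z, hz⟩ := ha (b y)
      have h2 : γ (x - α z) = 0 := by
        rw [map_sub, hιa, hz, ← hιb, hy, sub_self]
      obtain ⟨w, hw⟩ := (hbγ _).mp h2
      refine ⟨z + s w, ?_⟩
      rw [map_add, ← hs, hw]
      abel
    · rintro ⟨z, rfl⟩
      apply hei
      obtain ⟨y, hy⟩ := hb (a z)
      rw [he, hιa, ← hy, ← hιb, map_zero]
      exact h.apply_apply_eq_zero y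
  · intro h g
    obtain ⟨x, rfl⟩ := hγ g
    constructor
    · intro hg
      have h1 : β x = 0 := hei (by rw [he, hg, map_zero])
      obtain ⟨z, rfl⟩ := (h x).mp h1
      obtain ⟨y, hy⟩ := hb (a z)
      exact ⟨y, by rw [hιb, hy, hιa]⟩
    · rintro ⟨y, hy⟩
      obtain ⟨z, hz⟩ := ha (b y)
      have h1 : γ (x - α z) = 0 := by
        rw [map_sub, hιa, hz, ← hιb, hy, sub_self]
      obtain ⟨w, hw⟩ := (hbγ _).mp h1
      have hx : x = α (z + s w) := by
        rw [map_add, ← hs, hw]
        abel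
      rw [← he, hx, h.apply_apply_eq_zero, map_zero]

end pure

section bc

variable {R : Type*} [CommRing R] {X₁ X₂ Y F G H H' : Type*}
  [AddCommGroup X₁] [Module R X₁] [AddCommGroup X₂] [Module R X₂] [AddCommGroup Y] [Module R Y]
  [AddCommGroup F] [Module R F] [AddCommGroup G] [Module R G] [AddCommGroup H] [Module R H]
  [AddCommGroup H'] [Module R H']

theorem baseChange_surjective {A B : Type*} [AddCommGroup A] [Module R A] [AddCommGroup B]
    [Module R B] (f : A →ₗ[R] B) (hf : Surjective f) (k : Type*) [CommRing k] [Algebra R k] :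
    Surjective (f.baseChange k) := by
  rw [LinearMap.baseChange_eq_ltensor]
  exact LinearMap.lTensor_surjective k hf

/-- a sequence `F → G → H` and a presentation `X₁ → X₂ → H'` of it have the same exact fibres. -/
theorem exact_baseChange_iff_presentation (α : X₁ →ₗ[R] X₂) (γ : X₂ →ₗ[R] G) (αb : Y →ₗ[R] X₂)
    (s : Y →ₗ[R] X₁) (u : F →ₗ[R] G) (v : G →ₗ[R] H) (e : H' ≃ₗ[R] H) (β : X₂ →ₗ[R] H')
    (hγ : Surjective γ) (hbγ : Exact αb γ) (hs : αb = α ∘ₗ s)
    (h1 : ∀ x, γ (α x) ∈ LinearMap.range u) (h2 : ∀ y, ∃ x, γ (α x) = u y)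
    (he : e.toLinearMap ∘ₗ β = v ∘ₗ γ) (k : Type*) [CommRing k] [Algebra R k] :
    Exact (u.baseChange k) (v.baseChange k) ↔ Exact (α.baseChange k) (β.baseChange k) := by
  let a : X₁ →ₗ[R] LinearMap.range u := (γ ∘ₗ α).codRestrict (LinearMap.range u) h1
  have ha : Surjective a := by
    rintro ⟨_, y, rfl⟩
    obtain ⟨x, hx⟩ := h2 y
    exact ⟨x, Subtype.ext hx⟩
  have hιa : γ ∘ₗ α = (LinearMap.range u).subtype ∘ₗ a := rfl
  have hιb : u = (LinearMap.range u).subtype ∘ₗ u.rangeRestrict := rfl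
  refine exact_iff_exact_presentation (α.baseChange k) (γ.baseChange k) (αb.baseChange k)
    (s.baseChange k) (u.baseChange k) (v.baseChange k) (e.toLinearMap.baseChange k)
    (β.baseChange k) ((LinearMap.range u).subtype.baseChange k) (a.baseChange k)
    (u.rangeRestrict.baseChange k) (baseChange_surjective γ hγ k) ?_ ?_ (baseChange_surjective a ha k)
    (baseChange_surjective _ (LinearMap.surjective_rangeRestrict u) k) ?_ ?_ ?_ ?_
  · rw [LinearMap.baseChange_eq_ltensor, LinearMap.baseChange_eq_ltensor]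
    exact lTensor_exact k hbγ hγ
  · intro y
    rw [hs, LinearMap.baseChange_comp, LinearMap.comp_apply]
  · intro x
    rw [← LinearMap.comp_apply, ← LinearMap.baseChange_comp, hιa, LinearMap.baseChange_comp,
      LinearMap.comp_apply]
  · intro y
    conv_lhs => rw [hιb]
    rw [LinearMap.baseChange_comp, LinearMap.comp_apply]
  · intro x
    rw [← LinearMap.comp_apply, ← LinearMap.baseChange_comp, he, LinearMap.baseChange_comp,
      LinearMap.comp_apply]
  · have : (e.symm.toLinearMap.baseChange k) ∘ₗ (e.toLinearMap.baseChange k) = LinearMap.id := by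
      rw [← LinearMap.baseChange_comp, LinearEquiv.symm_comp, LinearMap.baseChange_id]
    exact (LeftInverse.injective (g := e.symm.toLinearMap.baseChange k) fun x => by
      rw [← LinearMap.comp_apply, this, LinearMap.id_apply])

end bc

end Groth.Agent.H3.FibEx
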