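import Mathlib
import Groth.Agent.Lib.Helper1.LimFlat4
import Groth.Agent.Lib.Helper3.FibEx.C
import Groth.Agent.Lib.Helper3.FibEx.D

/-!
# Constructibility of the exactness locus of the fibres of a sequence of f.p. modules
-/

set_option autoImplicit false
set_option linter.style.haveILetI false

universe u

open TensorProduct Function Topology

namespace Groth.Agent.H3.FibEx

open Groth.Agent.H1.PolyModel Groth.Agent.H1.LimFlat

attribute [local instance] MvPolynomial.algebraMvPolynomial

section

variable {n : ℕ} {R : Type u} [CommRing R]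

theorem kap_single (r t : ℕ) (k : Fin t → (Fin r → P n R)) (j : Fin t) :
    kap r t k (Pi.single j 1) = k j := by
  classical
  simp [kap, Fintype.linearCombination_apply_single]

end

section main

variable {R B : Type u} [CommRing R] [CommRing B] [Algebra R B] [Algebra.FinitePresentation R B]
  {F G H : Type u} [AddCommGroup F] [Module B F] [Module R F] [IsScalarTower R B F]
  [Module.FinitePresentation B F]
  [AddCommGroup G] [Module B G] [Module R G] [IsScalarTower R B G] [Module.FinitePresentation B G]
  [AddCommGroup H] [Module B H] [Module R H] [IsScalarTower R B H] [Module.FinitePresentation B H]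

set_option maxHeartbeats 1600000 in
/-- a sequence of finitely presented modules over a finitely presented algebra has the same
exact fibres as a sequence given by polynomial matrix data. -/
theorem exists_dat (u : F →ₗ[B] G) (v : G →ₗ[B] H) :
    ∃ (n t r r' t' : ℕ) (D : Dat n t r r' t' R), ∀ (k : Type u) [CommRing k] [Algebra R k],
      Exact ((u.restrictScalars R).baseChange k) ((v.restrictScalars R).baseChange k) ↔
        Exact ((D.α.restrictScalars R).baseChange k) ((D.β.restrictScalars R).baseChange k) := by
  classical
  obtain ⟨n, φ, hφ, hker⟩ := Algebra.FinitePresentation.out (R := R) (A := B)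
  letI algPB : Algebra (P n R) B := φ.toRingHom.toAlgebra
  haveI : IsScalarTower R (P n R) B := IsScalarTower.of_algebraMap_eq fun x => (φ.commutes x).symm
  have hsurj : Surjective (algebraMap (P n R) B) := hφ
  -- module structures over the polynomial ring
  letI modF : Module (P n R) F := Module.compHom F (algebraMap (P n R) B)
  letI modG : Module (P n R) G := Module.compHom G (algebraMap (P n R) B)
  letI modH : Module (P n R) H := Module.compHom H (algebraMap (P n R) B)
  haveI towF : IsScalarTower (P n R) B F := ⟨fun p s m => by
    change (algebraMap (P n R) B p * s) • m = algebraMap (P n R) B p • (s • m)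
    rw [mul_smul]⟩
  haveI towG : IsScalarTower (P n R) B G := ⟨fun p s m => by
    change (algebraMap (P n R) B p * s) • m = algebraMap (P n R) B p • (s • m)
    rw [mul_smul]⟩
  haveI towH : IsScalarTower (P n R) B H := ⟨fun p s m => by
    change (algebraMap (P n R) B p * s) • m = algebraMap (P n R) B p • (s • m)
    rw [mul_smul]⟩
  haveI towF' : IsScalarTower R (P n R) F := IsScalarTower.of_algebraMap_smul fun a m => by
    change algebraMap (P n R) B (algebraMap R (P n R) a) • m = a • m
    rw [← IsScalarTower.algebraMap_apply, algebraMap_smul]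
  haveI towG' : IsScalarTower R (P n R) G := IsScalarTower.of_algebraMap_smul fun a m => by
    change algebraMap (P n R) B (algebraMap R (P n R) a) • m = a • m
    rw [← IsScalarTower.algebraMap_apply, algebraMap_smul]
  haveI towH' : IsScalarTower R (P n R) H := IsScalarTower.of_algebraMap_smul fun a m => by
    change algebraMap (P n R) B (algebraMap R (P n R) a) • m = a • m
    rw [← IsScalarTower.algebraMap_apply, algebraMap_smul]
  obtain ⟨r, tG, kG, ⟨eG⟩⟩ := exists_model_equiv (R := R) (S := B) (M := G) hsurj hker
  obtain ⟨r', t', k', ⟨eH⟩⟩ := exists_model_equiv (R := R) (S := B) (M := H) hsurj hker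
  haveI : Module.FinitePresentation (P n R) B :=
    Module.finitePresentation_of_surjective (Algebra.linearMap (P n R) B) hsurj hker
  haveI : Module.FinitePresentation (P n R) F := Module.FinitePresentation.trans (P n R) F B
  obtain ⟨a, ε, hε⟩ := Module.Finite.exists_fin' (P n R) F
  let uP : F →ₗ[P n R] G := u.restrictScalars (P n R)
  let vP : G →ₗ[P n R] H := v.restrictScalars (P n R)
  let γ : (Fin r → P n R) →ₗ[P n R] G := eG.toLinearMap ∘ₗ proj r tG kG
  have hγ : Surjective γ := eG.surjective.comp (proj_surjective r tG kG)
  have h1 : ∀ j : Fin a, ∃ w : Fin r → P n R, γ w = uP (ε (Pi.single j 1)) := fun j => hγ _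
  choose uhat huhat using h1
  have h2 : ∀ i : Fin r, ∃ w : Fin r' → P n R,
      proj r' t' k' w = eH.symm (vP (γ (Pi.single i 1))) := fun i => proj_surjective r' t' k' _
  choose Ψ hΨ using h2
  let D : Dat n (a + tG) r r' t' R := ⟨Fin.append uhat kG, Ψ, k'⟩
  refine ⟨n, a + tG, r, r', t', D, ?_⟩
  intro k _ _
  let αb : (Fin tG → P n R) →ₗ[P n R] (Fin r → P n R) := kap r tG kG
  let s : (Fin tG → P n R) →ₗ[P n R] (Fin (a + tG) → P n R) :=
    kap (a + tG) tG (fun j => Pi.single (Fin.natAdd a j) 1)
  let s' : (Fin a → P n R) →ₗ[P n R] (Fin (a + tG) → P n R) :=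
    kap (a + tG) a (fun j => Pi.single (Fin.castAdd tG j) 1)
  have hαbγ : Exact αb γ := by
    intro x
    rw [← exact_kap_proj r tG kG x]
    change eG (proj r tG kG x) = 0 ↔ _
    exact eG.map_eq_zero_iff
  have hs : αb = D.α ∘ₗ s := by
    refine LinearMap.pi_ext' fun j => LinearMap.ext_ring ?_
    change kap r tG kG (Pi.single j 1) = kap r (a + tG) (Fin.append uhat kG)
      (kap (a + tG) tG (fun j => Pi.single (Fin.natAdd a j) 1) (Pi.single j 1))
    rw [kap_single, kap_single, kap_single, Fin.append_right]
  have hγK : ∀ i, γ (Fin.append uhat kG i) ∈ LinearMap.range (u.restrictScalars R) := by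
    intro i
    induction i using Fin.addCases with
    | left j =>
      rw [Fin.append_left, huhat]
      exact ⟨_, rfl⟩
    | right j =>
      rw [Fin.append_right]
      have : γ (kG j) = 0 := (hαbγ _).mpr ⟨Pi.single j 1, kap_single r tG kG j⟩
      rw [this]
      exact Submodule.zero_mem _
  have hr1 : ∀ x, γ (D.α x) ∈ LinearMap.range (u.restrictScalars R) := by
    intro x
    change γ (kap r (a + tG) (Fin.append uhat kG) x) ∈ _
    rw [kap_apply, map_sum]
    refine Submodule.sum_mem _ fun i _ => ?_
    rw [map_smul]
    obtain ⟨y, hy⟩ := hγK i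
    refine ⟨x i • y, ?_⟩
    change u (x i • y) = x i • γ _
    rw [← hy]
    exact uP.map_smul (x i) y
  have hcomp : γ ∘ₗ D.α ∘ₗ s' = uP ∘ₗ ε := by
    refine LinearMap.pi_ext' fun j => LinearMap.ext_ring ?_
    change γ (kap r (a + tG) (Fin.append uhat kG)
      (kap (a + tG) a (fun j => Pi.single (Fin.castAdd tG j) 1) (Pi.single j 1))) =
        uP (ε (Pi.single j 1))
    rw [kap_single, kap_single, Fin.append_left, huhat]
  have hr2 : ∀ y, ∃ x, γ (D.α x) = (u.restrictScalars R) y := by
    intro y
    obtain ⟨c, rfl⟩ := hε y
    exact ⟨s' c, LinearMap.congr_fun hcomp c⟩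
  have he : eH.toLinearMap ∘ₗ D.β = vP ∘ₗ γ := by
    refine LinearMap.pi_ext' fun i => LinearMap.ext_ring ?_
    change eH (proj r' t' k' (kap r' r Ψ (Pi.single i 1))) = vP (γ (Pi.single i 1))
    rw [kap_single, hΨ, LinearEquiv.apply_symm_apply]
  exact exact_baseChange_iff_presentation (D.α.restrictScalars R) (γ.restrictScalars R)
    (αb.restrictScalars R) (s.restrictScalars R) (u.restrictScalars R) (v.restrictScalars R)
    (eH.restrictScalars R) (D.β.restrictScalars R) hγ hαbγ
    (by rw [hs]; rfl) hr1 hr2 (LinearMap.ext fun x => LinearMap.congr_fun he x) k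

/-- **EGA IV 9.4.2 (affine form)**: the exactness locus of the fibres of a sequence of finitely
presented modules over a finitely presented algebra is constructible. -/
theorem isConstructible_setOf_fibre_exact (u : F →ₗ[B] G) (v : G →ₗ[B] H) :
    IsConstructible {p : PrimeSpectrum R |
      Exact ((u.restrictScalars R).baseChange p.asIdeal.ResidueField)
        ((v.restrictScalars R).baseChange p.asIdeal.ResidueField)} := by
  obtain ⟨n, t, r, r', t', D, hD⟩ := exists_dat (R := R) u v
  have : {p : PrimeSpectrum R |
      Exact ((u.restrictScalars R).baseChange p.asIdeal.ResidueField)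
        ((v.restrictScalars R).baseChange p.asIdeal.ResidueField)} = D.exactLocus := by
    ext p
    rw [Dat.mem_exactLocus, D.isExact_map_iff]
    exact hD p.asIdeal.ResidueField
  rw [this]
  exact D.isConstructible_exactLocus

end main

end Groth.Agent.H3.FibEx
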